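import Cfsg.Agent.H436.M23.Out
import Cfsg.Agent.H436.M23.Tab
import Cfsg.Agent.H608.Lb.Cols
import Cfsg.Agent.H34.LB.MDef
import Cfsg.Agent.H66.M23.Five

/-!
# S4879, the row of the Monster, `p = 11`: the columns at `x` (helper436)

* `exists_loc12` : the principal `11`-block of `M₁₂` in the order `1, 45, 54, 120, 144`, signs `1, 1, -1, -1, 1`;
* `mem_B0` : the characters of degree prime to `11` are in the principal block;
* `exists_q` : the rows, the Gram matrix, the congruences modulo `121` and modulo `11`;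
* `exists_el` : the Monster.
-/

set_option autoImplicit false
set_option linter.unusedSectionVars false

namespace Cfsg.Agent.H436.LB.MQ

open Cfsg Subgroup
open Cfsg.Agent.Blocks.Basic Cfsg.Agent.Blocks.Local
open Cfsg.Agent.Characters.Core
open Cfsg.Agent.H436.M23.Abs
open Cfsg.Agent.H436.M23.Tab (D S E MTab exists_tab)
open Cfsg.Agent.H608.Lb
open Cfsg.Agent.H34.LB (f1 f2)
open scoped ComplexConjugate

universe v

section M12

variable {L : Type v} [Group L] [Fintype L]

theorem exists_loc12 (h : Spor.IsoM12 L) {M : Ideal AlgInt} (hM : IsPModular 11 M) {y t : L} (hy : orderOf y = 5)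
    (ht : orderOf t = 2) (hyt : Commute t y) :
    ∃ (u : Fin 5 → IrrCharacter L) (Φ : Fin 5 → L → ℂ), Loc 11 M L 5 2 u E Φ ∧ (∀ i, (u i : L → ℂ) 1 = D i) ∧
      (∀ i, (u i : L → ℂ) t = S i) ∧
      ∀ ψ : IrrCharacter L, (∃ i, ψ = u i) ∨ (ψ : L → ℂ) 1 = 16 ∨ 11 ∣ charDegree (ψ : L → ℂ) := by
  classical
  have hMp := isPrime_of_isPModular hM
  have hs : IsSimpleGroup L := (Cfsg.Agent.H603.FD.Spor.isM12 h).1
  have hc : Nat.card L = 95040 := card_m12 h
  obtain ⟨χ, th, th', k, T⟩ := exists_tab hc hy ht hyt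
  obtain ⟨R⟩ : Nonempty (Sylow 11 L) := inferInstance
  have hR : Nat.card R = 11 := Cfsg.Agent.MTwelve.Assembly5.card_eleven hc R
  obtain ⟨u, s, Φ, Lc⟩ := exists_loc 11 M hM (by norm_num) R hR 5 2
    (Cfsg.Agent.MTwelve.Final.relIndex_eleven hc
      (fun P => Cfsg.Agent.MTwelve.SylowEleven.centralizer_sylow11 hc P) R
      (Cfsg.Agent.MTwelve.SylowEleven.card_normalizer_sylow11 hc R)) (by norm_num)
  obtain ⟨z, hz⟩ := Lc.sg
  have hmem : ∀ i, ∃ j, u i = χ j := by
    intro i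
    have h3 := CharactersDeep.ModCongr.memLocalIdeal_character_sub hM (u i).2 z z
      (Blocks.PPart.isPPart_of_isPGroup ⟨1, by rw [hz, pow_one]⟩)
    rw [inv_mul_cancel, Lc.sing i z (by rw [hz]), Blocks.Basic.irr_one_eq_charDegree (u i).2] at h3
    have h4 : ((s i : ℂ) - (charDegree (u i : L → ℂ) : ℂ)) = ((s i - charDegree (u i : L → ℂ) : ℤ) : ℂ) := by
      push_cast; rfl
    rw [h4, Blocks.Local.memLocalIdeal_intCast_iff hM] at h3
    have h16 : (u i : L → ℂ) 1 = 16 → False := by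
      intro h5
      rw [Blocks.Basic.irr_one_eq_charDegree (u i).2] at h5
      have h6 : charDegree (u i : L → ℂ) = 16 := by exact_mod_cast h5
      rw [h6] at h3
      rcases Lc.sgn i with h7 | h7 <;> rw [h7] at h3 <;> revert h3 <;> decide
    rcases T.rest (u i) with ⟨j, hj⟩ | hj | hj | hj
    · exact ⟨j, hj⟩
    · exact (h16 (by rw [hj, T.th_one])).elim
    · exact (h16 (by rw [hj, T.th_one'])).elim
    · exfalso
      have h6 : ((11 : ℕ) : ℤ) ∣ s i := by
        have h7 : ((11 : ℕ) : ℤ) ∣ (charDegree (u i : L → ℂ) : ℤ) := by exact_mod_cast hj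
        have h8 : s i = (s i - charDegree (u i : L → ℂ)) + charDegree (u i : L → ℂ) := by ring
        rw [h8]
        exact dvd_add h3 h7
      rcases Lc.sgn i with h7 | h7 <;> rw [h7] at h6 <;> revert h6 <;> decide
  choose τ hτ using hmem
  have hinj : Function.Injective τ := fun i j hij => Lc.inj (by rw [hτ i, hτ j, hij])
  set σ : Equiv.Perm (Fin 5) := (Equiv.ofBijective τ (Finite.injective_iff_bijective.1 hinj)).symm with hσ
  have hu : ∀ j, u (σ j) = χ j := by
    intro j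
    rw [hτ]
    congr 1
    exact (Equiv.ofBijective τ (Finite.injective_iff_bijective.1 hinj)).apply_symm_apply j
  have hsE : ∀ j, s (σ j) = E j := by
    intro j
    have h1 := Lc.sing (σ j) z (by rw [hz])
    rw [hu, T.sing z (by rw [hz])] at h1
    exact_mod_cast h1.symm
  have hL := Lc.reindex σ
  have e1 : (fun i => u (σ i)) = χ := funext hu
  have e2 : (fun i => s (σ i)) = E := funext hsE
  rw [e1, e2] at hL
  refine ⟨χ, _, hL, T.one, T.vt, fun ψ => ?_⟩
  rcases T.rest ψ with h | h | h | h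
  · exact Or.inl h
  · exact Or.inr (Or.inl (by rw [h, T.th_one]))
  · exact Or.inr (Or.inl (by rw [h, T.th_one']))
  · exact Or.inr (Or.inr h)

end M12

section G

variable {G : Type v} [Group G] [Finite G] {x : G} {L : Subgroup G}

theorem sit (h : El x L) : Sit 11 x L := ⟨h.sp.ord, h.sp.le, h.notMem, h.sp.card⟩

/-- the centralizer in `L` of an element of order 11 is an 11-group -/
theorem pgroup_of_comm (h : El x L) {l : G} (hl : l ∈ L) (hl1 : l ≠ 1) (hlp : ∃ n, orderOf l = 11 ^ n) {c : G}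
    (hc : c ∈ L) (hcl : Commute c l) : ∃ n, orderOf c = 11 ^ n := by
  have hcard := card_m12 h.iso
  have hlp' : IsPGroup 11 (zpowers (⟨l, hl⟩ : L)) := by
    obtain ⟨n, hn⟩ := hlp
    exact IsPGroup.of_card (n := n) (by rw [Nat.card_zpowers, Subgroup.orderOf_mk, hn])
  obtain ⟨Q, hQ⟩ := hlp'.exists_le_sylow
  have hQc : Nat.card (Q : Subgroup L) = 11 := by
    rw [Q.card_eq_multiplicity, fac_m12 h.iso, pow_one]
  have hl1' : (⟨l, hl⟩ : L) ≠ 1 := fun h' => hl1 (congrArg Subtype.val h')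
  have hQe : zpowers (⟨l, hl⟩ : L) = Q := by
    apply Subgroup.eq_of_le_of_card_ge hQ
    rw [hQc]
    have h1 := Subgroup.card_dvd_of_le hQ
    rw [hQc] at h1
    rcases (Nat.dvd_prime (by norm_num : Nat.Prime 11)).1 h1 with h2 | h2
    · exfalso
      rw [Nat.card_zpowers] at h2
      exact hl1' (orderOf_eq_one_iff.1 h2)
    · rw [h2]
  have hcQ : (⟨c, hc⟩ : L) ∈ centralizer ((Q : Subgroup L) : Set L) := by
    rw [← hQe, mem_centralizer_iff]
    intro g hg
    obtain ⟨i, rfl⟩ := mem_zpowers_iff.1 hg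
    have h1 : Commute (⟨l, hl⟩ : L) ⟨c, hc⟩ := Subtype.ext hcl.symm.eq
    exact (h1.zpow_left i).eq
  obtain ⟨n, hn⟩ := IsPGroup.iff_orderOf.1 (pgroup_cent h.iso Q) ⟨_, hcQ⟩
  refine ⟨n, ?_⟩
  rw [← hn, Subgroup.orderOf_mk, Subgroup.orderOf_mk]

/-- the centralizer of a Sylow 11-subgroup -/
theorem exists_sylow (h : El x L) : ∃ P : Sylow 11 G, IsPGroup 11 (centralizer ((P : Subgroup G) : Set G)) := by
  classical
  have hx : IsPGroup 11 (zpowers x) := IsPGroup.of_card (n := 1) (by rw [Nat.card_zpowers, h.sp.ord, pow_one])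
  obtain ⟨P, hP⟩ := hx.exists_le_sylow
  have hPc : Nat.card (P : Subgroup G) = 11 ^ 2 := by rw [P.card_eq_multiplicity, h.fac]
  have hxP : x ∈ (P : Subgroup G) := hP (mem_zpowers x)
  have hcomm : ∀ g ∈ (P : Subgroup G), Commute x g := by
    intro g hg
    have h1 := (IsPGroup.isMulCommutative_of_card_eq_prime_sq hPc).is_comm.comm
    have h2 := h1 ⟨x, hxP⟩ ⟨g, hg⟩
    exact congrArg Subtype.val h2
  -- an element of `P ∩ L`
  obtain ⟨l, hlP, hlL, hl1⟩ : ∃ l ∈ (P : Subgroup G), l ∈ L ∧ l ≠ 1 := by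
    obtain ⟨g, hgP, hgx⟩ : ∃ g ∈ (P : Subgroup G), g ∉ zpowers x := by
      by_contra hcon
      push Not at hcon
      have h1 : (P : Subgroup G) ≤ zpowers x := hcon
      have h2 := Subgroup.card_le_of_le h1
      rw [hPc, Nat.card_zpowers, h.sp.ord] at h2
      norm_num at h2
    obtain ⟨i, l, hl, hgl⟩ := h.sp.split g (mem_centralizer_singleton_iff.2 (hcomm g hgP).symm.eq)
    refine ⟨l, ?_, hl, ?_⟩
    · have h1 : l = (x ^ i)⁻¹ * g := by rw [hgl]; group
      rw [h1]
      exact mul_mem (inv_mem (pow_mem hxP i)) hgP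
    · rintro rfl
      apply hgx
      rw [hgl, mul_one]
      exact pow_mem (mem_zpowers x) i
  have hlp : ∃ n, orderOf l = 11 ^ n := by
    obtain ⟨n, hn⟩ := IsPGroup.iff_orderOf.1 P.isPGroup' ⟨l, hlP⟩
    exact ⟨n, by rw [← hn, Subgroup.orderOf_mk]⟩
  refine ⟨P, ?_⟩
  have hprime : ∀ q : ℕ, q.Prime → q ∣ Nat.card (centralizer ((P : Subgroup G) : Set G)) → q = 11 := by
    intro q hq hqd
    have hqf : Fact q.Prime := ⟨hq⟩
    obtain ⟨⟨c, hc⟩, hco⟩ := exists_prime_orderOf_dvd_card' q hqd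
    rw [Subgroup.orderOf_mk] at hco
    by_contra hne
    have hcx : c ∈ centralizer ({x} : Set G) := by
      rw [mem_centralizer_singleton_iff]
      exact (mem_centralizer_iff.1 hc x hxP).symm
    have hcl : Commute c l := (mem_centralizer_iff.1 hc l hlP).symm
    have hcL : c ∈ L := h.sp.reg_mem hcx (by
      rw [hco, Nat.prime_dvd_prime_iff_eq (by norm_num) hq]
      exact fun h' => hne h'.symm)
    obtain ⟨n, hn⟩ := pgroup_of_comm h hlL hl1 hlp hcL hcl
    rw [hco] at hn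
    have h3 : q ∣ 11 ^ n := by rw [← hn]
    exact hne ((Nat.prime_dvd_prime_iff_eq hq (by norm_num)).1 (hq.dvd_of_dvd_pow h3))
  have h5 := Nat.eq_prime_pow_of_unique_prime_dvd (p := 11) Nat.card_pos.ne' (fun {q} hq hqd => hprime q hq hqd)
  exact IsPGroup.of_card h5

/-- **The characters of degree prime to 11 are in the principal block.** -/
theorem mem_B0 (h : El x L) {M : Ideal AlgInt} (hM : IsPModular 11 M) (χ : IrrCharacter G)
    (hχ : ¬ 11 ∣ charDegree (χ : G → ℂ)) : χ ∈ principalBlock M G := by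
  obtain ⟨P, hP⟩ := exists_sylow h
  exact Cfsg.Agent.H633.Unique.mem_of_centralizer hM P hP χ hχ

theorem D_inj : ∀ i j : Fin 5, D j = D i → j = i := by decide

theorem D_ne : ∀ i : Fin 5, (16 : ℤ) ≠ D i := by decide

theorem D_dvd : ∀ i : Fin 5, ¬ (11 : ℤ) ∣ D i := by decide

theorem D_one : ∀ i : Fin 5, D i = 1 → i = 0 := by decide

theorem f1_eq (j : Fin 5) : f1 j = E j * D j := by fin_cases j <;> decide

theorem f2_eq (j : Fin 5) : f2 j = E j * S j := by fin_cases j <;> decide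

/-- **The rows.** -/
theorem exists_q (h : El x L) [Fintype L] {M : Ideal AlgInt} (hM : IsPModular 11 M) {a t : G} (ha : orderOf a = 5)
    (ht : orderOf t = 2) (hta : Commute t a) (hxa : Commute x a) (hxt : Commute x t) :
    ∃ (u : Fin 5 → IrrCharacter L) (Φ : Fin 5 → L → ℂ) (q : IrrCharacter G → Fin 5 → ℤ),
      Sit 11 x L ∧ Loc 11 M L 5 2 u E Φ ∧ Cols 11 M x L 5 2 u E Φ q ∧ (∀ i, (u i : L → ℂ) 1 = D i) ∧
      (∀ s : L, (s : G) = t → ∀ i, (u i : L → ℂ) s = S i) ∧
      (∀ χ : IrrCharacter G, (χ : G → ℂ) = 1 → q χ = ![1, 0, 0, 0, 0]) ∧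
      (∀ χ ∈ principalBlock M G, ∀ d : ℤ, (χ : G → ℂ) 1 = d → (121 : ℤ) ∣ d - ∑ j, q χ j * f1 j) ∧
      (∀ χ ∈ principalBlock M G, ∀ b : ℤ, (χ : G → ℂ) t = b → (11 : ℤ) ∣ b - ∑ j, q χ j * f2 j) ∧
      (∀ i j, ∑ᶠ χ ∈ principalBlock M G, q χ i * q χ j = 11 * ((if i = j then 1 else 0) + 2)) ∧
      ∀ χ : IrrCharacter G, ¬ 11 ∣ charDegree (χ : G → ℂ) → χ ∈ principalBlock M G := by
  classical
  have hMp := isPrime_of_isPModular hM
  have := finite_irr (G := G)
  have := Fintype.ofFinite (IrrCharacter G)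
  have haL : a ∈ L := h.sp.reg_mem (mem_centralizer_singleton_iff.2 hxa.symm.eq) (by rw [ha]; norm_num)
  have htL : t ∈ L := h.sp.reg_mem (mem_centralizer_singleton_iff.2 hxt.symm.eq) (by rw [ht]; norm_num)
  have ht11 : ¬ 11 ∣ orderOf t := by rw [ht]; norm_num
  obtain ⟨u, Φ, hL, hu1, hut, hrest⟩ := exists_loc12 h.iso hM (y := ⟨a, haL⟩) (t := ⟨t, htL⟩)
    (by rw [Subgroup.orderOf_mk, ha]) (by rw [Subgroup.orderOf_mk, ht]) (Subtype.ext hta.eq)
  have hdeg1 : ∀ i, (charDegree (u i : L → ℂ) : ℤ) = D i := by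
    intro i
    have h1 := hu1 i
    rw [Blocks.Basic.irr_one_eq_charDegree (u i).2] at h1
    exact_mod_cast h1
  have hinv := inv_of_deg hM (sit h) hL h.pows (by
    intro i θ _ hθ
    have h1 : (charDegree (θ : L → ℂ) : ℤ) = D i := by rw [hθ, hdeg1]
    rcases hrest θ with ⟨j, hj⟩ | hj | hj
    · rw [hj, hdeg1] at h1
      rw [hj, D_inj i j h1]
    · exfalso
      rw [Blocks.Basic.irr_one_eq_charDegree θ.2] at hj
      have h2 : charDegree (θ : L → ℂ) = 16 := by exact_mod_cast hj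
      rw [h2] at h1
      exact D_ne i h1
    · exact (D_dvd i (by rw [← h1]; exact_mod_cast hj)).elim)
  obtain ⟨q, hq⟩ := exists_cols hM (sit h) hL hinv
  have hval1 : ∀ χ ∈ principalBlock M G, (χ : G → ℂ) x = ((∑ j, q χ j * f1 j : ℤ) : ℂ) := by
    intro χ hχ
    have h1 := hq.val χ hχ 1 (by rw [orderOf_one]; norm_num)
    rw [Subgroup.coe_one, mul_one] at h1
    rw [h1]
    push_cast
    refine Finset.sum_congr rfl fun j _ => ?_
    rw [hu1, f1_eq]
    push_cast
    ring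
  have hvalt : ∀ χ ∈ principalBlock M G, (χ : G → ℂ) (x * t) = ((∑ j, q χ j * f2 j : ℤ) : ℂ) := by
    intro χ hχ
    have h1 := hq.val χ hχ ⟨t, htL⟩ (by rw [Subgroup.orderOf_mk]; exact ht11)
    rw [h1]
    push_cast
    refine Finset.sum_congr rfl fun j _ => ?_
    rw [hut, f2_eq]
    push_cast
    ring
  refine ⟨u, Φ, q, sit h, hL, hq, hu1, ?_, ?_, ?_, ?_, ?_, mem_B0 h hM⟩
  · intro s hs i
    have h1 : s = ⟨t, htL⟩ := Subtype.ext hs
    rw [h1, hut]
  · intro χ hχ
    have h0 : (u 0 : L → ℂ) = 1 := by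
      obtain ⟨i, hi, -⟩ := hL.one
      have h1 := hu1 i
      rw [hi, Pi.one_apply] at h1
      rw [← D_one i (by exact_mod_cast h1.symm), hi]
    have h1 := hq.one 0 h0 χ hχ
    funext i
    rw [h1 i]
    fin_cases i <;> decide
  · intro χ hχ d hd
    exact h.dvd_deg χ hd (hval1 χ hχ)
  · intro χ hχ b hb
    exact h.dvd_inv χ ht11 hxt hb (hvalt χ hχ)
  · intro i j
    have h1 := hq.gram i j
    have h2 : ∑ᶠ χ ∈ principalBlock M G, q χ i * q χ j = ∑ χ : IrrCharacter G, q χ i * q χ j := by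
      rw [finsum_mem_eq_finite_toFinset_sum _ (Set.toFinite _)]
      refine Finset.sum_subset (Finset.subset_univ _) fun χ _ hχ => ?_
      rw [Set.Finite.mem_toFinset] at hχ
      rw [hq.zero χ hχ, zero_mul]
    rw [h2, h1]
    norm_num

end G

open Cfsg.Agent.BpSpor.MBigModel (MG)

/-- **The Monster.** -/
theorem exists_el : ∃ (x a t : MG) (L : Subgroup MG), El x L ∧ orderOf a = 5 ∧ orderOf t = 2 ∧
    LThreeB.Row.TA t ∧ Commute t a ∧ Commute x a ∧ Commute x t := by
  obtain ⟨u, C, T, t, y, H⟩ := H66.M23.Five.local_five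
  have hfac : (Nat.card MG).factorization 11 = 2 := by
    rw [Cfsg.Agent.MonsterP.EquivOf.isM_model.2]
    rw [show (808017424794512875886459904961710757005754368000000000 : ℕ) =
        11 ^ 2 * 6677829956979445255259999214559593033105408000000000 by norm_num,
      Nat.factorization_mul (by norm_num) (by norm_num), Nat.Prime.factorization_pow (by norm_num),
      Finsupp.add_apply, Finsupp.single_eq_same, Nat.factorization_eq_zero_of_not_dvd (by norm_num)]
  have hx : orderOf (y : MG) = 11 := by rw [Subgroup.orderOf_coe, H.oy]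
  obtain ⟨L, hL⟩ := Cfsg.Agent.H436.M23.Out.el hfac hx
  have hcomm : ∀ s : T, Commute u (s : MG) := by
    intro s
    have h1 := H.le s.2
    rw [H.cent, mem_centralizer_singleton_iff] at h1
    exact h1.symm
  refine ⟨y, u, t, L, hL, H.ord, by rw [Subgroup.orderOf_coe, H.ot], H.ta, (hcomm t).symm, (hcomm y).symm, ?_⟩
  exact congrArg Subtype.val H.comm.symm.eq

end Cfsg.Agent.H436.LB.MQ
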